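import Cfsg.Agent.TH.Boxes
import Cfsg.Agent.SB.Cl.Defs
import Cfsg.Agent.DS.Cl.Main
import Cfsg.Agent.ClassicalGeometry.SympAutSemi

/-!
# S3541, classical socles: interface (captain helper73)

Frame of `DS/Cl`, `SB/Cl`: `F : FR A`, `F.S ≤ G ≤ F.Aut`, `H ≤ G` the point stabiliser (`Ctx F G H m p`).
The boxes are `No* P`: no example of the given kind has the property `P`.  See `notes/TH/cl.md`.
-/

set_option autoImplicit false

namespace Cfsg.Agent.TH

/-- `N` is a non-abelian simple subgroup of `H ⊓ T`, normal in `H`, with trivial centraliser in `T` -/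
structure Sim {G : Type*} [Group G] (T H N : Subgroup G) : Prop where
  le : N ≤ H ⊓ T
  nrm : ∀ h ∈ H, ∀ x ∈ N, h * x * h⁻¹ ∈ N
  simple : IsSimpleGroup N
  nonab : ¬ IsMulCommutative N
  cent : ∀ t ∈ T, (∀ x ∈ N, t * x = x * t) → t = 1

/-- the classical groups in characteristic `p` -/
def IsCl (p : ℕ) (T : Type*) [Group T] : Prop :=
  IsPSLChar p T ∨ IsPSpChar p T ∨ IsPSUChar p T ∨ IsPOmegaOddChar p T ∨ IsPOmegaPlusChar p T ∨ IsPOmegaMinusChar p T

/-- no example with `H ⊓ T` almost simple, `T` in the family `P`, the socle `N` of `H ⊓ T` in the family `Q` -/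
def NoSim (P Q : ℕ → ∀ (T : Type) [Group T], Prop) : Prop := AllK →
  ∀ (G : Type) [Group G] [Finite G] (T H N : Subgroup G) (m p : ℕ), LieCtx T H m p → ¬ HasOwn p H → Sim T H N →
    P p ↥T → Q p ↥N → False

/-- [S-AltBig] classical `T`, `N` alternating of degree at least 23 -/
def BoxSimAltBig : Prop :=
  NoSim (fun p T _ => IsCl p T) fun _ N _ => ∃ c, 23 ≤ c ∧ Nonempty (N ≃* alternatingGroup (Fin c))

/-- [S-Alt] classical `T`, `N` alternating of degree at most 22, not of Lie type in characteristic `p` -/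
def BoxSimAlt : Prop := NoSim (fun p T _ => IsCl p T) fun p N _ =>
  ¬ IsLieTypeChar p N ∧ ∃ c, 5 ≤ c ∧ c ≤ 22 ∧ Nonempty (N ≃* alternatingGroup (Fin c))

/-- [S-Spor] classical `T`, `N` sporadic or the Tits group -/
def BoxSimSpor : Prop := NoSim (fun p T _ => IsCl p T) fun _ N _ => IsSporadicGroup N ∨ Lie.IsoTits N

/-- [S-Lie] classical `T`, `N` of Lie type in another characteristic -/
def BoxSimLie : Prop := NoSim (fun p T _ => IsCl p T) fun p N _ =>
  ¬ IsLieTypeChar p N ∧ ¬ IsAlternating N ∧ ∃ r : ℕ, r.Prime ∧ IsLieTypeChar r N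

namespace Cl

open Cfsg.Agent.DS.Cl Cfsg.Agent.DS.Cl.Fwd Cfsg.Agent.SB.Cl Module

section defs

variable {A : Type} [Ring A] [StarRing A]

/-- the standing hypotheses -/
structure Ctx (F : FR A) (G H : Subgroup (RingAut A)) (m p : ℕ) : Prop where
  allK : AllK
  ss : SS A
  span : F.Span
  S_le : F.S ≤ G
  le : G ≤ F.Aut
  H_le : H ≤ G
  lie : LieCtx (F.S.subgroupOf G) (H.subgroupOf G) m p
  char : (p : A) = 0
  nown : ¬ HasOwn p (H.subgroupOf G)

/-- an invariant totally singular proper subspace -/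
def ParD (F : FR A) (H : Subgroup (RingAut A)) : Prop :=
  ∃ R : Ideal A, R ≠ ⊥ ∧ Inv H R ∧ (∀ x ∈ R, ∀ y ∈ R, x * star y = 0) ∧ (∀ x ∈ R, x * F.l * star x ∈ F.L) ∧
    ¬ ∀ x ∈ R, ∀ a, x * a ∈ R

/-- an invariant totally isotropic subspace without singular vectors -/
def NSD (F : FR A) (H : Subgroup (RingAut A)) : Prop :=
  ∃ R : Ideal A, R ≠ ⊥ ∧ Inv H R ∧ (∀ x ∈ R, ∀ y ∈ R, x * star y = 0) ∧ ∀ x ∈ R, x * F.l * star x ∈ F.L → x = 0

/-- an invariant orthogonal decomposition with a block of rank at least `k` -/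
def BigD (H : Subgroup (RingAut A)) (r : A → ℕ) (k : ℕ) : Prop := ∃ D : Finset A, Fr D ∧ Inv H D ∧ ∃ e ∈ D, k ≤ r e

/-- there are invariant orthogonal decompositions, and all of them have blocks of rank less than `k` -/
def TorD (H : Subgroup (RingAut A)) (r : A → ℕ) (k : ℕ) : Prop := (∃ D : Finset A, Fr D ∧ Inv H D) ∧ ¬ BigD H r k

/-- irreducible, without invariant orthogonal decomposition -/
def Irr1 (H : Subgroup (RingAut A)) : Prop := Irr H ∧ ∀ D : Finset A, Fr D → ¬ Inv H D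

/-- an invariant commutative subring larger than the centre (a pair of totally singular subspaces, or a field) -/
def FldD (H : Subgroup (RingAut A)) : Prop := Irr1 H ∧ ∃ Z : Subring A, ComSub Z ∧ ¬ Z ≤ Subring.center A ∧ Inv H Z

/-- no invariant subspace, decomposition, commutative subring -/
def Irr2 (H : Subgroup (RingAut A)) : Prop := Irr1 H ∧ ∀ Z : Subring A, ComSub Z → Inv H Z → Z ≤ Subring.center A

/-- an invariant tensor decomposition -/
def TenD (H : Subgroup (RingAut A)) : Prop :=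
  Irr2 H ∧ ∃ 𝓑 : Set (Subring A), 𝓑.Nontrivial ∧ (∀ B ∈ 𝓑, Subring.center A ≤ B) ∧
    (∀ B ∈ 𝓑, ¬ B ≤ Subring.center A) ∧ (∀ B ∈ 𝓑, ∀ x ∈ B, star x ∈ B) ∧
    (∀ B ∈ 𝓑, ∀ B' ∈ 𝓑, B ≠ B' → ∀ x ∈ B, ∀ y ∈ B', x * y = y * x) ∧
    Subring.closure (⋃ B ∈ 𝓑, (B : Set A)) = ⊤ ∧ ∀ γ ∈ H, ∀ B ∈ 𝓑, B.map (γ : A →+* A) ∈ 𝓑

/-- an abelian minimal normal subgroup whose lifts span `A` (symplectic type) -/
def ExD (F : FR A) (H : Subgroup (RingAut A)) : Prop :=
  Irr2 H ∧ ∃ N : Subgroup (RingAut A), N ≤ H ⊓ F.S ∧ Main.MinN H N ∧ (∀ x ∈ N, ∀ y ∈ N, x * y = y * x) ∧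
    Main.alg F N = ⊤

/-- a simple normal subgroup whose lifts span `A` -/
def SimD (F : FR A) (H : Subgroup (RingAut A)) : Prop :=
  Irr2 H ∧ ∃ N : Subgroup (RingAut A), N ≤ H ⊓ F.S ∧ Main.Nrm H N ∧ IsSimpleGroup N ∧ ¬ IsMulCommutative N ∧
    Main.alg F N = ⊤

end defs

/-- properties of `(F, H, rank function)` -/
abbrev Pred : Type 1 := ∀ (A : Type) [Ring A] [StarRing A], FR A → Subgroup (RingAut A) → (A → ℕ) → Prop

section kinds

variable {K V : Type} [Field K] [Fintype K] [AddCommGroup V] [Module K V] [Finite V]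

/-- linear, `L_n(q)`, `q = |K|` -/
structure KL {n : ℕ} (F : FR (LR (Fin n) K)) : Prop where
  dim : 3 ≤ n
  iso : Nonempty (F.S ≃* Matrix.ProjectiveSpecialLinearGroup (Fin n) K)

/-- unitary, `U_n(q)`, `q² = |K|` -/
structure KU (h : HF K V) (F : FR h.EB) (q : ℕ) : Prop where
  u : IsU h
  L : F.L = Lmax h.EB
  card : Fintype.card K = q ^ 2
  dim : 3 ≤ finrank K V
  ne : ¬ (finrank K V = 3 ∧ q = 2)
  iso : Nonempty (F.S ≃* PSU (finrank K V) K q)

/-- symplectic, `PSp_{2k}(q)` -/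
structure KSp (h : HF K V) (F : FR h.EB) (k : ℕ) : Prop where
  sp : IsSp h F
  dim : finrank K V = 2 * k
  two : 2 ≤ k
  ne : k = 2 → 3 ≤ Fintype.card K
  iso : Nonempty (F.S ≃* PSp k K)

/-- orthogonal of dimension at least `7` -/
structure KO (h : HF K V) (F : FR h.EB) (Q : QuadraticForm K V) : Prop where
  o : IsO h F Q
  dim : 7 ≤ finrank K V
  iso : (∃ k, finrank K V = 2 * k + 1 ∧ Odd (Fintype.card K) ∧ Nonempty (F.S ≃* POmega K (quadFormOdd k K)) ∧
        ∃ e : V ≃ₗ[K] (Unit ⊕ (Fin k ⊕ Fin k) → K), ∀ v, Q v = quadFormOdd k K (e v)) ∨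
      (∃ k, finrank K V = 2 * k ∧ Nonempty (F.S ≃* POmega K (quadFormPlus k K)) ∧
        ∃ e : V ≃ₗ[K] (Fin k ⊕ Fin k → K), ∀ v, Q v = quadFormPlus k K (e v)) ∨
      ∃ (k : ℕ) (a b : K), finrank K V = 2 * k ∧ (∀ z₁ z₂ : K, z₁ ^ 2 + a * z₁ * z₂ + b * z₂ ^ 2 = 0 → z₁ = 0 ∧ z₂ = 0) ∧
        Nonempty (F.S ≃* POmega K (quadFormMinus (k - 1) K a b)) ∧
        ∃ e : V ≃ₗ[K] ((Fin (k - 1) ⊕ Fin (k - 1)) ⊕ Fin 2 → K), ∀ v, Q v = quadFormMinus (k - 1) K a b (e v)

end kinds

def NoL (P : Pred) : Prop := ∀ (K : Type) [Field K] [Fintype K] (n : ℕ) (F : FR (LR (Fin n) K))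
  (G H : Subgroup (RingAut (LR (Fin n) K))) (m p : ℕ), KL F → Ctx F G H m p → P _ F H rkL → False

def NoU (P : Pred) : Prop := ∀ (K V : Type) [Field K] [Fintype K] [AddCommGroup V] [Module K V] [Finite V] (h : HF K V)
  (F : FR h.EB) (q : ℕ) (G H : Subgroup (RingAut h.EB)) (m p : ℕ), KU h F q → Ctx F G H m p → P _ F H (rk h) → False

def NoSp (P : Pred) : Prop := ∀ (K V : Type) [Field K] [Fintype K] [AddCommGroup V] [Module K V] [Finite V] (h : HF K V)
  (F : FR h.EB) (k : ℕ) (G H : Subgroup (RingAut h.EB)) (m p : ℕ), KSp h F k → Ctx F G H m p → P _ F H (rk h) → False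

def NoO (P : Pred) : Prop := ∀ (K V : Type) [Field K] [Fintype K] [AddCommGroup V] [Module K V] [Finite V] (h : HF K V)
  (F : FR h.EB) (Q : QuadraticForm K V) (G H : Subgroup (RingAut h.EB)) (m p : ℕ), KO h F Q → Ctx F G H m p →
  P _ F H (rk h) → False

/-- no example of any of the four kinds -/
structure No (P : Pred) : Prop where
  l : NoL P
  u : NoU P
  sp : NoSp P
  o : NoO P

/-! ### The boxes -/

/-- [C-Cases] Aschbacher's case division -/
def BoxCases : Prop := ∀ (A : Type) [Ring A] [StarRing A] [Finite A] (F : FR A) (G H : Subgroup (RingAut A)) (m p : ℕ),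
  Ctx F G H m p → ParD F H ∨ NSD F H ∨ (∃ D : Finset A, Fr D ∧ Inv H D) ∨ FldD H ∨ TenD H ∨ ExD F H ∨ SimD F H

/-- [C-Par] -/
def BoxPar : Prop := No fun _ _ _ F H _ => ParD F H
/-- [C-NS] -/
def BoxNS : Prop := No fun _ _ _ F H _ => NSD F H
/-- [C-Big] -/
def BoxBigL : Prop := NoL fun _ _ _ _ H r => BigD H r 2
def BoxBigU : Prop := NoU fun _ _ _ _ H r => BigD H r 2
def BoxBigSp : Prop := NoSp fun A _ _ _ H _ => ∃ D : Finset A, Fr D ∧ Inv H D
def BoxBigO : Prop := NoO fun _ _ _ _ H r => BigD H r 3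
/-- [C-Tor] -/
def BoxTorL : Prop := NoL fun _ _ _ _ H r => TorD H r 2
def BoxTorU : Prop := NoU fun _ _ _ _ H r => TorD H r 2
def BoxTorO : Prop := NoO fun _ _ _ _ H r => TorD H r 3
/-- [C-Fld] -/
def BoxFldL : Prop := NoL fun _ _ _ _ H _ => FldD H
def BoxFldU : Prop := NoU fun _ _ _ _ H _ => FldD H
def BoxFldSp : Prop := NoSp fun _ _ _ _ H _ => FldD H
def BoxFldO : Prop := NoO fun _ _ _ _ H _ => FldD H
/-- [C-Ten] -/
def BoxTen : Prop := No fun _ _ _ _ H _ => TenD H
/-- [C-Ext] -/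
def BoxExt : Prop := No fun _ _ _ F H _ => ExD F H

/-- all examples inside the projective semilinear groups -/
def Main : Prop := No fun _ _ _ _ _ _ => True

/-- the automorphism of `X` induced by `g` along `e : T ≃* X` -/
def ind {G X : Type} [Group G] [Group X] {T : Subgroup G} (hT : T.Normal) (e : T ≃* X) (g : G) : MulAut X :=
  MulAut.congr e (MulAut.conjNormal (H := T) g)

/-- [C-B2] `Sp₄(2^a)` with a graph automorphism -/
def BoxB2 : Prop := AllK → ∀ (G : Type) [Group G] [Finite G] (T H : Subgroup G) (m : ℕ) (c : LieCtx T H m 2)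
  (K : Type) [Field K] [Fintype K] [CharP K 2] (e : T ≃* PSp 2 K), ¬ HasOwn 2 H → 4 ≤ Fintype.card K →
  (∃ g : G, ind c.as.normal e g ∉ (Cfsg.Agent.ClassicalGeometry.SympAutSemi.Psi 2 K).range) → False

/-- [C-D4] `PΩ₈⁺(q)` -/
def BoxD4 : Prop := (NoO fun _ _ _ _ _ _ => True) → NonOwn fun p T _ =>
  ∃ (K : Type) (_ : Field K) (_ : Fintype K) (_ : CharP K p), Nonempty (T ≃* POmega K (quadFormPlus 4 K))

/-- [C-Bridge] -/
def BoxBridge : Prop := Main → BoxB2 → BoxD4 → NonOwn fun p T _ => IsCl p T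

/-- the boxes with `H ⊓ T` almost simple -/
structure Sims : Prop where
  altBig : BoxSimAltBig
  alt : BoxSimAlt
  spor : BoxSimSpor
  lie : BoxSimLie

/-- [C-Sim] from the abstract boxes to the rings -/
def BoxSim : Prop := Sims → No fun _ _ _ F H _ => SimD F H

/-- all geometric boxes -/
structure Geo : Prop where
  cases : BoxCases
  par : BoxPar
  ns : BoxNS
  bigL : BoxBigL
  bigU : BoxBigU
  bigSp : BoxBigSp
  bigO : BoxBigO
  torL : BoxTorL
  torU : BoxTorU
  torO : BoxTorO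
  fldL : BoxFldL
  fldU : BoxFldU
  fldSp : BoxFldSp
  fldO : BoxFldO
  ten : BoxTen
  ext : BoxExt
  sim : BoxSim
  b2 : BoxB2
  d4 : BoxD4
  bridge : BoxBridge

theorem main_of (g : Geo) (s : Sims) : Main := by
  have hs := g.sim s
  refine ⟨?_, ?_, ?_, ?_⟩
  · intro K _ _ n F G H m p k c _
    rcases g.cases _ F G H m p c with h | h | h | h | h | h | h
    · exact g.par.l K n F G H m p k c h
    · exact g.ns.l K n F G H m p k c h
    · by_cases hb : BigD H rkL 2
      · exact g.bigL K n F G H m p k c hb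
      · exact g.torL K n F G H m p k c ⟨h, hb⟩
    · exact g.fldL K n F G H m p k c h
    · exact g.ten.l K n F G H m p k c h
    · exact g.ext.l K n F G H m p k c h
    · exact hs.l K n F G H m p k c h
  · intro K V _ _ _ _ _ f F q G H m p k c _
    rcases g.cases _ F G H m p c with h | h | h | h | h | h | h
    · exact g.par.u K V f F q G H m p k c h
    · exact g.ns.u K V f F q G H m p k c h
    · by_cases hb : BigD H (rk f) 2
      · exact g.bigU K V f F q G H m p k c hb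
      · exact g.torU K V f F q G H m p k c ⟨h, hb⟩
    · exact g.fldU K V f F q G H m p k c h
    · exact g.ten.u K V f F q G H m p k c h
    · exact g.ext.u K V f F q G H m p k c h
    · exact hs.u K V f F q G H m p k c h
  · intro K V _ _ _ _ _ f F q G H m p k c _
    rcases g.cases _ F G H m p c with h | h | h | h | h | h | h
    · exact g.par.sp K V f F q G H m p k c h
    · exact g.ns.sp K V f F q G H m p k c h
    · exact g.bigSp K V f F q G H m p k c h
    · exact g.fldSp K V f F q G H m p k c h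
    · exact g.ten.sp K V f F q G H m p k c h
    · exact g.ext.sp K V f F q G H m p k c h
    · exact hs.sp K V f F q G H m p k c h
  · intro K V _ _ _ _ _ f F q G H m p k c _
    rcases g.cases _ F G H m p c with h | h | h | h | h | h | h
    · exact g.par.o K V f F q G H m p k c h
    · exact g.ns.o K V f F q G H m p k c h
    · by_cases hb : BigD H (rk f) 3
      · exact g.bigO K V f F q G H m p k c hb
      · exact g.torO K V f F q G H m p k c ⟨h, hb⟩
    · exact g.fldO K V f F q G H m p k c h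
    · exact g.ten.o K V f F q G H m p k c h
    · exact g.ext.o K V f F q G H m p k c h
    · exact hs.o K V f F q G H m p k c h

/-- **the classical socles** -/
theorem noCl_of (g : Geo) (s : Sims) : NonOwn fun p T _ => IsCl p T := g.bridge (main_of g s) g.b2 g.d4

theorem boxesCl_of (h : NonOwn fun p T _ => IsCl p T) : BoxesCl where
  l hK G _ _ T H m p c o hP := h hK G T H m p c o (Or.inl hP)
  sp hK G _ _ T H m p c o hP := h hK G T H m p c o (Or.inr (Or.inl hP))
  u hK G _ _ T H m p c o hP := h hK G T H m p c o (Or.inr (Or.inr (Or.inl hP)))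
  o hK G _ _ T H m p c o hP := h hK G T H m p c o (Or.inr (Or.inr (Or.inr (Or.inl hP))))
  op hK G _ _ T H m p c o hP := h hK G T H m p c o (Or.inr (Or.inr (Or.inr (Or.inr (Or.inl hP)))))
  om hK G _ _ T H m p c o hP := h hK G T H m p c o (Or.inr (Or.inr (Or.inr (Or.inr (Or.inr hP)))))

end Cl

end Cfsg.Agent.TH
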