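import Cfsg.Agent.TH.Cl.Defs
import Cfsg.Agent.TH.Uni
import Cfsg.Agent.SB.Cl.Cent

/-!
# S3541, classical socles: first consequences of `Ctx` (helper73)

All lemmas `In.*` of `TH/Uni.lean` apply to `c.in : In G H m`; `d = Nat.card H / m`, `n = H.relIndex G`.
-/

set_option autoImplicit false
set_option linter.unusedSectionVars false

namespace Cfsg.Agent.TH.Cl

open Cfsg.Agent.DS.Cl Cfsg.Agent.DS.Cl.Fwd Cfsg.Agent.SB.Cl

variable {A : Type} [Ring A] [StarRing A] {F : FR A} {G H : Subgroup (RingAut A)} {m p : ℕ}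

namespace Ctx

variable (c : Ctx F G H m p)
include c

theorem «in» : In G H m := ⟨c.H_le, c.lie.half⟩

theorem prime : p.Prime := c.lie.prime

theorem simple : IsSimpleGroup F.S := by
  have := c.lie.as.simple
  exact (Subgroup.subgroupOfEquivOfLe c.S_le).symm.isSimpleGroup

theorem noncomm : ¬ IsMulCommutative F.S := fun h => c.lie.as.nonab
  ⟨⟨fun a b => Subtype.ext (Subtype.ext (congrArg (fun x : F.S => (x : RingAut A)) (h.1.1 ⟨a.1.1, a.2⟩ ⟨b.1.1, b.2⟩)))⟩⟩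

theorem H_le_Aut : H ≤ F.Aut := c.H_le.trans c.le

theorem le_SAut : H ≤ SAut A := c.H_le_Aut.trans F.Aut_le_SAut

theorem conj_inf {γ s : RingAut A} (hγ : γ ∈ H) (hs : s ∈ H ⊓ F.S) : γ * s * γ⁻¹ ∈ H ⊓ F.S :=
  ⟨H.mul_mem (H.mul_mem hγ hs.1) (H.inv_mem hγ), FR.conj_mem_S (c.H_le_Aut hγ) hs.2⟩

variable [Finite A]

theorem not_le : ¬ F.S ≤ H := fun h => c.lie.as.not_le c.lie.half fun _ hx => h hx

/-- **MAX** -/
theorem max {M : Subgroup (RingAut A)} (h1 : H ≤ M) (h2 : M ≤ G) (h3 : ¬ F.S ≤ M) : M = H :=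
  c.in.max h1 h2 fun h => h3 (c.S_le.trans h)

/-- **MAX** : the elements of `G` preserving an `H`-invariant set which is not `F.S`-invariant lie in `H` -/
theorem mem_of_inv {X : Set A} (hX : Inv H X) (hS : ¬ Inv F.S X) {g : RingAut A} (hg : g ∈ G)
    (h : ∀ x ∈ X, g x ∈ X) : g ∈ H := by
  rw [← c.max (M := G ⊓ stab F X) (le_inf c.H_le fun γ hγ => ⟨c.H_le_Aut hγ, hX γ hγ⟩) inf_le_left
    fun h1 => hS fun γ hγ => (h1 hγ).2.2]
  exact ⟨hg, c.le hg, h⟩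

theorem dvd_index : p ∣ H.relIndex G := c.lie.dvd_index

/-- `p ∤ d` -/
theorem not_dvd_d : ¬ p ∣ Nat.card H / m := c.in.not_dvd_d c.prime c.dvd_index

theorem inf_not_comm : ¬ ∀ a ∈ H ⊓ F.S, ∀ b ∈ H ⊓ F.S, a * b = b * a := fun h =>
  c.lie.as.inf_not_comm c.lie.half fun a ha b hb => Subtype.ext (h a ⟨ha.1, ha.2⟩ b ⟨hb.1, hb.2⟩)

theorem inf_ne_bot : H ⊓ F.S ≠ ⊥ := fun h => c.inf_not_comm fun a ha b _ => by
  rw [h, Subgroup.mem_bot] at ha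
  rw [ha, one_mul, mul_one]

/-- `|H ⊓ S| n = |S|` -/
theorem card_inf_mul : Nat.card ↥(H ⊓ F.S) * H.relIndex G = Nat.card F.S := by
  have h := c.lie.as.card_inf_mul c.lie.half
  rw [In.card_sub c.S_le] at h
  rw [← h, ← In.card_sub (G := G) (inf_le_left.trans c.H_le)]
  rfl

/-- `|H| = |H ⊓ S| |G : S|` -/
theorem card_eq_mul : Nat.card H = Nat.card ↥(H ⊓ F.S) * F.S.relIndex G := by
  have h := c.lie.as.card_eq_mul c.lie.half
  rw [In.card_sub c.H_le] at h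
  rw [h, ← In.card_sub (G := G) (inf_le_left.trans c.H_le)]
  rfl

/-- `G = S H` -/
theorem exists_mul {g : RingAut A} (hg : g ∈ G) : ∃ t ∈ F.S, ∃ h ∈ H, g = t * h := by
  obtain ⟨t, ht, h, hh, e⟩ := c.lie.as.exists_mul' c.lie.half ⟨g, hg⟩
  exact ⟨t, ht, h, hh, congrArg Subtype.val e⟩

/-- **UNI** for `p`-subgroups: `B ⊴ M ⊴ H` -/
theorem uni {M B Y : Subgroup (RingAut A)} (hM : M ≤ H) (hMn : ∀ a ∈ H, ∀ x ∈ M, a * x * a⁻¹ ∈ M) (hB : B ≤ M)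
    (hBn : ∀ a ∈ M, ∀ x ∈ B, a * x * a⁻¹ ∈ B) (hY : IsPGroup p Y) (hYB : Y ≤ B) {g : RingAut A} (hg : g ∈ G) :
    ∃ b ∈ B, TH.cj b Y ≤ TH.cj g H :=
  have : Fact p.Prime := ⟨c.prime⟩
  c.in.uni c.not_dvd_d hM hMn hB hBn hY hYB hg

/-- `O_p(H) = 1` -/
theorem eq_bot_of_isPGroup {N : Subgroup (RingAut A)} (hN : N ≤ H) (hn : ∀ a ∈ H, ∀ x ∈ N, a * x * a⁻¹ ∈ N)
    (hp : IsPGroup p N) : N = ⊥ :=
  have : Fact p.Prime := ⟨c.prime⟩
  c.in.eq_bot_of_isPGroup c.not_dvd_d hN hn hp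

omit [Finite A] c in
/-- the conjugate `g H g⁻¹` preserves `g X` -/
theorem inv_cj {X : Set A} (hX : Inv H X) (g : RingAut A) : Inv (TH.cj g H) (g '' X) := by
  rintro _ ⟨γ, hγ, rfl⟩ _ ⟨x, hx, rfl⟩
  refine ⟨γ x, hX γ hγ x hx, ?_⟩
  change _ = g (γ (g.symm (g x)))
  rw [g.symm_apply_apply]

end Ctx

end Cfsg.Agent.TH.Cl
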